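import Groth.Agent.AmpleLib.Sections
import Groth.Agent.AmpleLib.Twist2
import Groth.Agent.AmpleLib.CounitEpi
import Groth.Agent.Quot8.PnFamily
import Groth.Agent.PnEmb.Segre
import Groth.Agent.Coherent.FiniteType

/-!
# Quasi-coherent modules on relative projective space are quotients of sums of `π^*G ⊗ O(-m)`
-/

set_option autoImplicit false
set_option backward.isDefEq.respectTransparency.types false
set_option linter.style.haveILetI false

universe u

open CategoryTheory CategoryTheory.Limits AlgebraicGeometry Opposite TopologicalSpace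
open Groth.Agent.Coherent Groth.Agent.PicLib Groth.Agent.AmpleLib

namespace Groth.Agent.ProjEpi14

section extend

variable {X : Scheme.{u}} {L : X.Modules} (F : X.Modules) [Coh.IsQCoh F] (a : Γ(L, ⊤)) {U : X.Opens}

theorem exists_pow_smul_affine' (hU : IsAffineOpen U) {Ω : X.Opens} (hUΩ : U ≤ Ω) {g : Γ(L, U)} (hg : IsGen L U g)
    (f : Γ(F, glocus L a ⊓ Ω)) :
    ∃ (n : ℕ) (t : Γ(F, U)), resM F (inf_le_right : glocus L a ⊓ U ≤ U) t =
      res (inf_le_right : glocus L a ⊓ U ≤ U) (hg.coef le_rfl (resM L le_top a)) ^ n •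
        resM F (inf_le_inf_left _ hUΩ) f := by
  obtain ⟨n, t, ht⟩ := qcoh_exists_pow_smul hU F (hg.coef le_rfl (resM L le_top a))
    (resM F ((glocus_inf a hg).ge.trans (inf_le_inf_left _ hUΩ)) f)
  refine ⟨n, t, ?_⟩
  have h := congrArg (resM F (glocus_inf a hg).le) ht
  rw [resM_smul, resM_resM, resM_resM] at h
  rw [h, map_pow, map_pow]
  exact congrArg (fun c => c ^ n • resM F (inf_le_inf_left _ hUΩ) f) (PicLib.res_res _ _ _)

/-- A section on the locus of `a` extends after multiplication by a power of `a`. -/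
theorem exists_extend_on {Ω : X.Opens} (hΩc : IsCompact (Ω : Set X)) (hΩq : IsQuasiSeparated (Ω : Set X))
    (hL : PicF.IsInvertible L) (f : Γ(F, glocus L a ⊓ Ω)) :
    ∃ (n : ℕ) (t : Γ(CohB1.tensorMod F (CohB1.tensorPow L n), Ω)), 0 < n ∧
      resM _ (inf_le_right : glocus L a ⊓ Ω ≤ Ω) t = tmul f (powSec (resM L le_top a) n) := by
  classical
  obtain ⟨ι, _, W, hW, hWΩ, hcov, hgen⟩ := exists_finite_gen_cover hL (W := Ω) hΩc
  choose g hg using hgen
  have := Fintype.ofFinite ι
  let c : ∀ i, Γ(X, W i) := fun i => (hg i).coef le_rfl (resM L le_top a)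
  have hloc := fun i => exists_pow_smul_affine' F a (hW i) (hWΩ i) (hg i) f
  choose n₀ t₀ ht₀ using hloc
  let N := Finset.univ.sup n₀
  obtain ⟨t, ht⟩ : ∃ t : ∀ i, Γ(F, W i), ∀ i, resM F (inf_le_right : glocus L a ⊓ W i ≤ W i) (t i) =
      res (inf_le_right : glocus L a ⊓ W i ≤ W i) (c i) ^ N • resM F (inf_le_inf_left _ (hWΩ i)) f := by
    refine ⟨fun i => c i ^ (N - n₀ i) • t₀ i, fun i => ?_⟩
    rw [resM_smul, ht₀ i, map_pow, ← mul_smul, ← pow_add,
      Nat.sub_add_cancel (Finset.le_sup (f := n₀) (Finset.mem_univ i))]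
  -- agreement on overlaps after multiplication
  have hov : ∀ i j : ι, ∃ k : ℕ, ∀ y ∈ W i ⊓ W j, ∃ (V : X.Opens) (hVi : V ≤ W i) (hVj : V ≤ W j), y ∈ V ∧
      ∃ d : Γ(X, V), d • resM L hVi (g i) = resM L hVj (g j) ∧
        res hVi (c i) ^ k • (resM F hVi (t i) - d ^ N • resM F hVj (t j)) = 0 := by
    intro i j
    obtain ⟨κ, _, V, hV, hVW, hVcov, -⟩ := exists_finite_gen_cover hL (W := W i ⊓ W j)
      (hΩq _ _ (hWΩ i) (W i).2 (hW i).isCompact (hWΩ j) (W j).2 (hW j).isCompact)
    have h : ∀ l, ∃ (k : ℕ) (d : Γ(X, V l)), d • resM L ((hVW l).trans inf_le_left) (g i) =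
        resM L ((hVW l).trans inf_le_right) (g j) ∧
        res ((hVW l).trans inf_le_left) (c i) ^ k • (resM F ((hVW l).trans inf_le_left) (t i) -
          d ^ N • resM F ((hVW l).trans inf_le_right) (t j)) = 0 := fun l => by
      have hi : V l ≤ W i := (hVW l).trans inf_le_left
      have hj : V l ≤ W j := (hVW l).trans inf_le_right
      have hgi := (hg i).restrict hi
      obtain ⟨d, hd⟩ : ∃ d : Γ(X, V l), d • resM L hi (g i) = resM L hj (g j) := (hg i (V l) hi).2 _
      have hcd : res hi (c i) = res hj (c j) * d := by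
        refine ((hg i) (V l) hi).1 ?_
        show res hi (c i) • resM L hi (g i) = (res hj (c j) * d) • resM L hi (g i)
        rw [mul_smul, hd, ← resM_smul, ← resM_smul]
        have e1 := congrArg (resM L hi) ((hg i).coef_spec le_rfl (resM L le_top a))
        have e2 := congrArg (resM L hj) ((hg j).coef_spec le_rfl (resM L le_top a))
        rw [resM_self] at e1 e2
        rw [e1, e2, resM_resM, resM_resM]
      have hcoef : hgi.coef le_rfl (resM L le_top a) = res hi (c i) := by
        refine IsGen.coef_eq _ _ ?_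
        rw [resM_self, ← resM_smul]
        have e1 := congrArg (resM L hi) ((hg i).coef_spec le_rfl (resM L le_top a))
        rw [resM_self] at e1
        rw [e1, resM_resM]
      obtain ⟨k, hk⟩ := exists_pow_smul_eq_zero_affine F a (hV l) hgi
        (resM F hi (t i) - d ^ N • resM F hj (t j)) (by
          rw [map_sub, resM_smul, resM_resM, resM_resM,
            ← resM_resM F (inf_le_right : glocus L a ⊓ W i ≤ W i) (inf_le_inf_left _ hi), ht i,
            ← resM_resM F (inf_le_right : glocus L a ⊓ W j ≤ W j) (inf_le_inf_left _ hj), ht j,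
            resM_smul, resM_smul, resM_resM, resM_resM, ← mul_smul, sub_eq_zero, map_pow, map_pow, map_pow,
            ← mul_pow]
          congr 2
          have := congrArg (res (inf_le_right : glocus L a ⊓ V l ≤ V l)) hcd
          rw [map_mul, PicLib.res_res, PicLib.res_res] at this
          rw [PicLib.res_res, PicLib.res_res, this, mul_comm])
      rw [hcoef] at hk
      exact ⟨k, d, hd, hk⟩
    choose k d hd hk using h
    have := Fintype.ofFinite κ
    refine ⟨Finset.univ.sup k, fun y hy => ?_⟩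
    obtain ⟨l, hyl⟩ := Opens.mem_iSup.1 (hVcov hy)
    refine ⟨V l, (hVW l).trans inf_le_left, (hVW l).trans inf_le_right, hyl, d l, hd l, ?_⟩
    obtain ⟨e, he⟩ := Nat.exists_eq_add_of_le (Finset.le_sup (f := k) (Finset.mem_univ l))
    rw [he, add_comm, pow_add, mul_smul, hk l, smul_zero]
  choose k hk using hov
  let K := Nat.succ (Finset.univ.sup fun p : ι × ι => k p.1 p.2)
  let τ : ∀ i, Γ(CohB1.tensorMod F (CohB1.tensorPow L (N + K)), W i) := fun i =>
    tmul (c i ^ K • t i) (powSec (g i) (N + K))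
  obtain ⟨T, hT, -⟩ := TopCat.Sheaf.existsUnique_gluing'
    (⟨(CohB1.tensorMod F (CohB1.tensorPow L (N + K))).presheaf,
      (CohB1.tensorMod F (CohB1.tensorPow L (N + K))).isSheaf⟩ : TopCat.Sheaf Ab X)
    W Ω (fun i => homOfLE (hWΩ i)) hcov τ (fun i j => by
      refine sec_ext (CohB1.tensorMod F (CohB1.tensorPow L (N + K))) _ _ fun y hy => ?_
      obtain ⟨V, hVi, hVj, hyV, d, hd, hz⟩ := hk i j y hy
      refine ⟨V, le_inf hVi hVj, hyV, ?_⟩
      show resM _ (le_inf hVi hVj) (resM _ inf_le_left (τ i)) = resM _ (le_inf hVi hVj) (resM _ inf_le_right (τ j))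
      rw [resM_resM, resM_resM]
      simp only [τ, resM_tmul, resM_powSec, resM_smul, map_pow]
      rw [← hd, powSec_smul, tmul_smul_right, ← tmul_smul_left, ← mul_smul, pow_add, mul_assoc, ← mul_pow]
      refine congrArg (tmul · _) ?_
      have hcd : res hVi (c i) = d * res hVj (c j) := by
        refine ((hg i) V hVi).1 ?_
        show res hVi (c i) • resM L hVi (g i) = (d * res hVj (c j)) • resM L hVi (g i)
        rw [mul_comm, mul_smul, hd, ← resM_smul, ← resM_smul]
        have e1 := congrArg (resM L hVi) ((hg i).coef_spec le_rfl (resM L le_top a))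
        have e2 := congrArg (resM L hVj) ((hg j).coef_spec le_rfl (resM L le_top a))
        rw [resM_self] at e1 e2
        rw [e1, e2, resM_resM, resM_resM]
      obtain ⟨e, he⟩ := Nat.exists_eq_add_of_le ((Finset.le_sup (f := fun p : ι × ι => k p.1 p.2)
        (Finset.mem_univ (i, j))).trans (Nat.le_succ _))
      have h0 : res hVi (c i) ^ K • (resM F hVi (t i) - d ^ N • resM F hVj (t j)) = 0 := by
        rw [show K = k i j + e from he, add_comm, pow_add, mul_smul, hz, smul_zero]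
      rw [smul_sub, sub_eq_zero] at h0
      rw [h0, ← mul_smul, ← hcd, mul_comm])
  refine ⟨N + K, T, by simp only [K]; omega, sec_ext _ _ _ fun y hy => ?_⟩
  obtain ⟨i, hyi⟩ := Opens.mem_iSup.1 (hcov hy.2)
  refine ⟨glocus L a ⊓ W i, inf_le_inf_left _ (hWΩ i), ⟨hy.1, hyi⟩, ?_⟩
  rw [resM_resM, ← resM_resM _ (hWΩ i) (inf_le_right : glocus L a ⊓ W i ≤ W i),
    show resM _ (hWΩ i) T = τ i from hT i, resM_tmul (inf_le_inf_left _ (hWΩ i)),
    resM_powSec, resM_resM, tmul_powSec_res F a (hg i) _ (inf_le_right : glocus L a ⊓ W i ≤ W i)]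
  simp only [τ, resM_tmul, resM_powSec, resM_smul, map_pow]
  rw [ht i, ← mul_smul, ← pow_add, add_comm K N]

end extend

variable {n : ℕ} {P T : Scheme.{u}} {π : P ⟶ T} {h : P ⟶ CohB1.ProjSpace n (ULift.{u} ℤ)}

theorem nonempty_pow_OT (k : ℕ) : Nonempty (CohB1.tensorPow (Quot8.OT n h 1) k ≅ Quot8.OT n h (k : ℤ)) := by
  induction k with
  | zero => exact ⟨(Quot8.nonempty_OT_zero h).some.symm⟩
  | succ k ih =>
    obtain ⟨e⟩ := ih
    obtain ⟨e'⟩ := Quot8.nonempty_OT_add h (a := (k : ℤ)) (b := 1) (c := ((k + 1 : ℕ) : ℤ)) (by push_cast; rfl)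
    exact ⟨AmpleLib.tensorIso e (Iso.refl _) ≪≫ e'⟩

theorem exists_glocus_mem (x : P) : ∃ (a : Γ(Quot8.OT n h 1, ⊤)) (D : (CohB1.ProjSpace n (ULift.{u} ℤ)).Opens),
    IsAffineOpen D ∧ glocus (Quot8.OT n h 1) a = h ⁻¹ᵁ D ∧ x ∈ glocus (Quot8.OT n h 1) a := by
  obtain ⟨i, hi⟩ := UPLib.exists_degOne_projSpace (R := CommRingCat.of (ULift.{u} ℤ)) n (h.base x)
  have hg := (PnEmb.glocus_pullSec_twist_one (UPLib.adjoin_one_eq_top (UPLib.linForm_mem (R := ULift.{u} ℤ) n)
    (UPLib.isSymmetricAlgebra_linForm n)) h (MvPolynomial.isHomogeneous_X (ULift.{u} ℤ) i))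
  exact ⟨_, Proj.basicOpen _ (MvPolynomial.X i),
    Proj.isAffineOpen_basicOpen _ _ (MvPolynomial.isHomogeneous_X (ULift.{u} ℤ) i) one_pos, hg, hg.ge hi⟩

/-- A quasi-coherent module on a family of projective spaces is a quotient of a sum of `π^*G ⊗ O(-m)`. -/
theorem exists_epi (H : Quot8.IsPn n π h) (F : P.Modules) (hF : Coh.IsQCoh F) :
    ∃ (ι : Type u) (G : ι → T.Modules) (m : ι → ℕ)
      (p : (∐ fun j => CohB1.tensorMod ((Scheme.Modules.pullback π).obj (G j)) (Quot8.OT n h (-((m j : ℕ) : ℤ)))) ⟶ F),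
      (∀ j, Coh.IsQCoh (G j)) ∧ (∀ j, 0 < m j) ∧ Epi p := by
  classical
  haveI := hF
  haveI := isProper_projSpace_toSpec n (ULift.{u} ℤ)
  haveI : IsProper π := H.isProper
  let L := Quot8.OT n h 1
  have hL : PicF.IsInvertible L := Quot8.isInvertible_OT h 1
  have hP : ∀ k, PicF.IsInvertible (CohB1.tensorPow L k) := isInvertible_tensorPow hL
  have hN : ∀ k, PicF.IsInvertible (Quot8.OT n h (-(k : ℤ))) := fun k => Quot8.isInvertible_OT h _
  have hone : ∀ k : ℕ, ∃ e : CohB1.tensorMod (CohB1.tensorPow L k) (Quot8.OT n h (-(k : ℤ))) ≅ Coh.structureModule P, True := fun k => by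
    obtain ⟨e⟩ := nonempty_pow_OT (h := h) k
    obtain ⟨e'⟩ := Quot8.nonempty_OT_add h (a := (k : ℤ)) (b := -(k : ℤ)) (c := 0) (by ring)
    obtain ⟨e''⟩ := Quot8.nonempty_OT_zero h
    exact ⟨AmpleLib.tensorIso e (Iso.refl _) ≪≫ e' ≪≫ e'', trivial⟩
  choose one _ using hone
  choose α hα using fun k : ℕ => exists_assocHom F (Quot8.OT n h (-(k : ℤ))) (hP k)
  let M : ℕ → P.Modules := fun k => CohB1.tensorMod F (CohB1.tensorPow L k)
  let q : ∀ k, CohB1.tensorMod ((Scheme.Modules.pullback π).obj ((Scheme.Modules.pushforward π).obj (M k)))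
      (Quot8.OT n h (-(k : ℤ))) ⟶ F := fun k =>
    tensorMap ((Scheme.Modules.pullbackPushforwardAdjunction π).counit.app (M k)) (𝟙 _) ≫ α k ≫
      tensorMap (𝟙 F) (one k).hom ≫ tensorSwap _ _ ≫ (unitTensorIso F).hom
  refine ⟨ULift.{u} ℕ, fun j => (Scheme.Modules.pushforward π).obj (M (j.down + 1)), fun j => j.down + 1,
    Sigma.desc fun j => q (j.down + 1), fun j => ?_, fun j => Nat.succ_pos _, ?_⟩
  · haveI := isQCoh_tensor_invertible F (hP (j.down + 1))
    exact isQCoh_push π (M (j.down + 1))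
  refine ⟨fun {Q} d₁ d₂ hd => ?_⟩
  rw [← sub_eq_zero]
  let d : F ⟶ Q := d₁ - d₂
  have hd0 : ∀ k, 0 < k → q k ≫ d = 0 := fun k hk => by
    obtain ⟨k, rfl⟩ : ∃ j, k = j + 1 := ⟨k - 1, by omega⟩
    have := Sigma.ι (fun j : ULift.{u} ℕ => CohB1.tensorMod ((Scheme.Modules.pullback π).obj
      ((Scheme.Modules.pushforward π).obj (M (j.down + 1)))) (Quot8.OT n h (-((j.down + 1 : ℕ) : ℤ)))) ⟨k⟩ ≫= hd
    rw [Sigma.ι_desc_assoc, Sigma.ι_desc_assoc] at this
    rw [Preadditive.comp_sub, sub_eq_zero]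
    exact this
  refine Scheme.Modules.hom_ext _ _ fun U => ?_
  ext s
  show d.app U s = 0
  refine sec_ext _ _ _ fun x hx => ?_
  obtain ⟨a, D, hD, haD, hxa⟩ := exists_glocus_mem (h := h) x
  obtain ⟨V, hV, hxV, -⟩ := Opens.isBasis_iff_nbhd.mp T.isBasis_affineOpens
    (show π.base x ∈ (⊤ : T.Opens) from trivial)
  let Ω : P.Opens := π ⁻¹ᵁ V
  have hΩc : IsCompact (Ω : Set P) := QuasiCompact.isCompact_preimage (f := π) (V : Set T) V.2 hV.isCompact
  have hΩq : IsQuasiSeparated (Ω : Set P) := π.isQuasiSeparated_preimage hV.isQuasiSeparated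
  let W0 : P.Opens := glocus L a ⊓ Ω
  have hW0 : IsAffineOpen W0 := by
    haveI : IsAffineHom ((h ⁻¹ᵁ D).ι ≫ π) := by
      haveI : IsAffine (D : Scheme.{u}) := hD
      exact MorphismProperty.of_isPullback (P := @IsAffineHom)
        ((isPullback_morphismRestrict h D).paste_vert H) inferInstance
    have h1 : IsAffineOpen (((h ⁻¹ᵁ D).ι ≫ π) ⁻¹ᵁ V) := hV.preimage _
    have h2 := h1.image_of_isOpenImmersion (h ⁻¹ᵁ D).ι
    rw [Scheme.Hom.comp_preimage, Scheme.Hom.image_preimage_eq_opensRange_inf, Scheme.Opens.opensRange_ι, ← haD] at h2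
    exact h2
  -- every section over `W0` is killed
  have hkey : ∀ f : Γ(F, W0), d.app W0 f = 0 := fun f => by
    obtain ⟨k, t, hk, ht⟩ := exists_extend_on F a hΩc hΩq hL f
    refine sec_ext _ _ _ fun y hy => ?_
    obtain ⟨V', hyV', w, hw⟩ := exists_isGen (hN k) y
    let W' : P.Opens := W0 ⊓ V'
    have hW' : W' ≤ W0 := inf_le_left
    let hh : Γ(CohB1.tensorPow L k, W') := resM _ hW' (powSec (resM L (le_top : W0 ≤ ⊤) a) k)
    have hhgen : IsGen _ W' hh := (isGen_powSec ((le_glocus_iff a W0).1 inf_le_left) k).restrict hW'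
    let c : Γ(Coh.structureModule P, W') := (one k).hom.app W' (tmul hh (resM _ (inf_le_right : W' ≤ V') w))
    have hcgen : IsGen _ W' c := isGen_map_iso (one k) (isGen_tmul hhgen (hw.restrict inf_le_right))
    obtain ⟨r, hr⟩ : ∃ r : Γ(P, W'), r • c = (show Γ(Coh.structureModule P, W') from (1 : Γ(P, W'))) := by
      obtain ⟨r, hr⟩ := (hcgen W' le_rfl).2 (show Γ(Coh.structureModule P, W') from (1 : Γ(P, W')))
      exact ⟨r, by simpa only [resM_self] using hr⟩
    let t' : Γ((Scheme.Modules.pushforward π).obj (M k), V) := t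
    let b : Γ((Scheme.Modules.pullback π).obj ((Scheme.Modules.pushforward π).obj (M k)), W') :=
      resM _ (hW'.trans inf_le_right) (pullSec π t')
    have h1 : ((Scheme.Modules.pullbackPushforwardAdjunction π).counit.app (M k)).app W' b =
        tmul (resM F hW' f) hh := by
      refine (app_resM ((Scheme.Modules.pullbackPushforwardAdjunction π).counit.app (M k))
        (hW'.trans inf_le_right : W' ≤ Ω) (pullSec π t')).trans ?_
      refine (congrArg (resM (M k) (hW'.trans inf_le_right : W' ≤ Ω)) (counit_app_pullSec π (M k) V t)).trans ?_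
      rw [← resM_resM _ (inf_le_right : W0 ≤ Ω) hW', ht, resM_tmul]
    have hq : (q k).app W' (tmul b (resM _ (inf_le_right : W' ≤ V') w)) =
        (show Γ(P, W') from c) • resM F hW' f := by
      show (unitTensorIso F).hom.app W' ((tensorSwap _ _).app W' ((tensorMap _ _).app W' ((α k).app W'
        ((tensorMap _ _).app W' (tmul _ _))))) = _
      rw [tensorMap_tmul]
      refine (congrArg (fun z => (unitTensorIso F).hom.app W' ((tensorSwap _ _).app W'
        ((tensorMap (𝟙 F) (one k).hom).app W' ((α k).app W' (tmul z (resM _ (inf_le_right : W' ≤ V') w)))))) h1).trans ?_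
      refine (congrArg (fun z => (unitTensorIso F).hom.app W' ((tensorSwap _ _).app W'
        ((tensorMap (𝟙 F) (one k).hom).app W' z))) (hα k W' _ hh _)).trans ?_
      rw [tensorMap_tmul]
      refine (congrArg _ (Bilin.desc_tmul _ W' _ _)).trans ?_
      exact Bilin.desc_tmul _ W' _ _
    refine ⟨W', hW', ⟨hy, hyV'⟩, ?_⟩
    have h0 := ConcreteCategory.congr_hom (congrArg (fun φ => Scheme.Modules.Hom.app φ W') (hd0 k hk))
      (tmul b (resM _ (inf_le_right : W' ≤ V') w))
    have h2 : (show Γ(P, W') from c) • d.app W' (resM F hW' f) = 0 := by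
      rw [← Scheme.Modules.Hom.app_smul, ← hq]
      exact h0
    rw [map_zero, ← app_resM]
    have hr' : r * (show Γ(P, W') from c) = 1 := hr
    rw [← one_smul Γ(P, W') (d.app W' (resM F hW' f)), ← hr', mul_smul, h2, smul_zero]
  obtain ⟨r, hle, hxr⟩ := hW0.exists_basicOpen_le (V := U ⊓ W0) ⟨x, hx, hxa, hxV⟩ ⟨hxa, hxV⟩
  obtain ⟨m', t', ht'⟩ := qcoh_exists_pow_smul hW0 F r (resM F (hle.trans inf_le_left) s)
  refine ⟨P.basicOpen r, hle.trans inf_le_left, hxr, ?_⟩
  rw [map_zero, ← app_resM]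
  have h3 : resM Q (P.basicOpen_le r) (d.app W0 t') = 0 := by rw [hkey t', map_zero]
  rw [← app_resM, ht', Scheme.Modules.Hom.app_smul] at h3
  exact (IsUnit.smul_eq_zero (by rw [map_pow]; exact (P.toRingedSpace.isUnit_res_basicOpen r).pow m')).1 h3

end Groth.Agent.ProjEpi14
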